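import Cfsg.Agent.SylowL.CompFacts
import Cfsg.Agent.Lib.CoprimeStab
import Cfsg.Agent.S0089
set_option linter.all false

/-!
# No components: two strongly closed self-centralising subgroups

`layer_eq_bot` is step (C1) of the recognition of `PSL(m, 2^r)` by a Sylow 2-subgroup.
-/

set_option autoImplicit false
set_option linter.unusedSectionVars false

namespace Cfsg.Agent.SylowL.NoComp

open Subgroup Cfsg
open scoped commutatorElement
open Cfsg.Agent.SignalizersComponents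
open Cfsg.Agent.SignalizersComponents.Components
open Cfsg.Agent.SignalizersComponents.ComponentExists (layer_eq_bot_iff)
open Cfsg.Agent.SylowL.CompFacts

universe u

variable {X : Type u} [Group X] [Finite X] {S : Sylow 2 X} {A B K L : Subgroup X}

theorem not_sylow_central (hO : Cfsg.oddCore X = ⊥) (S : Sylow 2 X) (hK : Cfsg.IsComponent K) :
    ¬ (S : Subgroup X) ⊓ K ≤ centralizer (K : Set X) := by
  intro h
  obtain ⟨P, hP⟩ := exists_sylow S hK.1
  have hcen : ∀ x ∈ (P : Subgroup K), x ∈ center K := by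
    intro x hx
    rw [hP] at hx
    rw [mem_center_iff_mem_centralizer]
    exact h ⟨hx, x.2⟩
  have hcomm : IsMulCommutative (P : Subgroup K) := by
    refine ⟨⟨fun x y => Subtype.ext ?_⟩⟩
    exact (mem_center_iff.1 (hcen y y.2) x)
  have h1 : (P : Subgroup K) = ⊥ := by
    rw [eq_bot_iff]
    intro x hx
    have h3 := S0089.pow_index_eq_one_of_mem (P : Subgroup K) x
      (by rw [hK.2.1.commutator_eq_top]; exact mem_top _) (hcen x hx)
    obtain ⟨k, hk⟩ := P.2 ⟨x, hx⟩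
    have hk' : x ^ 2 ^ k = 1 := congrArg Subtype.val hk
    have h4 : (2 ^ k).Coprime (P : Subgroup K).index :=
      Nat.Coprime.pow_left k ((Nat.Prime.coprime_iff_not_dvd Nat.prime_two).2 P.not_dvd_index)
    rw [mem_bot, ← orderOf_eq_one_iff]
    exact Nat.eq_one_of_dvd_coprimes h4 (orderOf_dvd_of_pow_eq_one hk')
      (orderOf_dvd_of_pow_eq_one h3)
  have h2 := P.not_dvd_index
  rw [h1, index_bot] at h2
  exact h2 (BalanceAux.dvd_card_component 2 hO hK)

/-- a conjugate of the component `K` different from `K` commutes with `K` -/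
theorem commute_of_notMem_normalizer (hK : Cfsg.IsComponent K) {s : X} (hs : s ∉ normalizer (K : Set X))
    {k k' : X} (hk : k ∈ K) (hk' : k' ∈ K) : (s * k * s⁻¹) * k' = k' * (s * k * s⁻¹) := by
  have hne : K ≠ K.map (MulAut.conj s).toMonoidHom := by
    intro h
    exact hs (BalanceAux.mem_normalizer_of_map_conj_eq h.symm)
  have h1 := component_commutator_eq_bot_of_ne hK (isComponent_conj s hK) hne
  rw [commutator_eq_bot_iff_le_centralizer] at h1
  exact mem_centralizer_iff.1 (h1 hk') (s * k * s⁻¹) ⟨k, hk, rfl⟩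

/-- an element commuting with a non-central element of the component normalises the component -/
theorem mem_normalizer_of_commute (hK : Cfsg.IsComponent K) {s v : X} (hv : v ∈ K)
    (hv' : v ∉ centralizer (K : Set X)) (hs : s * v = v * s) : s ∈ normalizer (K : Set X) := by
  by_contra h
  apply hv'
  rw [mem_centralizer_iff]
  intro k hk
  have h1 := commute_of_notMem_normalizer hK h hv hk
  rw [hs, mul_inv_cancel_right] at h1
  exact h1.symm

/-- the normaliser normalises the centraliser -/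
theorem conj_mem_centralizer {G : Type*} [Group G] {K : Subgroup G} {s c : G}
    (hs : s ∈ normalizer (K : Set G)) (hc : c ∈ centralizer (K : Set G)) :
    s * c * s⁻¹ ∈ centralizer (K : Set G) := by
  rw [mem_centralizer_iff] at hc ⊢
  intro k hk
  have h1 : s⁻¹ * k * s ∈ K := (mem_normalizer_iff''.1 hs k).1 hk
  have h2 := hc _ h1
  calc k * (s * c * s⁻¹) = s * ((s⁻¹ * k * s) * c) * s⁻¹ := by group
    _ = s * (c * (s⁻¹ * k * s)) * s⁻¹ := by rw [h2]
    _ = s * c * s⁻¹ * k := by group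

/-- a component does not centralise a self-centralising normal subgroup of a Sylow 2-subgroup -/
theorem not_le_centralizer (hO : Cfsg.oddCore X = ⊥) (S : Sylow 2 X)
    (hCA : ∀ s ∈ (S : Subgroup X), (∀ a ∈ A, s * a = a * s) → s ∈ A) (hK : Cfsg.IsComponent K) :
    ¬ K ≤ centralizer (A : Set X) := by
  intro h
  apply not_sylow_central hO S hK
  intro s hs
  have h1 : s ∈ A := hCA s hs.1 (fun a ha => (mem_centralizer_iff.1 (h hs.2) a ha).symm)
  rw [le_centralizer_iff] at h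
  exact h h1

/-- Elements of `S ∩ Z(K)` centralise `A`. -/
theorem commute_of_central (hG : GoldHyp.{u}) (hO : Cfsg.oddCore X = ⊥)
    (hAe : Cfsg.IsElementaryAbelian 2 A) (hA : Cfsg.IsStronglyClosed A (S : Subgroup X))
    (hK : Cfsg.IsComponent K) (hn : ¬ K ≤ centralizer (A : Set X)) {x : X} (hx : x ∈ K)
    (hx' : x ∈ centralizer (K : Set X)) : ∀ a ∈ A, x * a = a * x := by
  intro a ha
  obtain ⟨v, hv, c, hc, rfl⟩ := hG.inner X hO S A hAe hA K hK hn a ha
  have h1 : v * x = x * v := mem_centralizer_iff.1 hx' v hv.2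
  have h2 : x * c = c * x := mem_centralizer_iff.1 hc.2 x hx
  rw [← mul_assoc, ← h1, mul_assoc, h2, mul_assoc]

/-- (C1) Two strongly closed elementary abelian self-centralising subgroups `A`, `B` of the Sylow 2-subgroup
`S` with `A ∩ B ≤ Z(S)`, `A ∩ B ≤ [A, S]`: there are no components. -/
theorem layer_eq_bot (hG : GoldHyp.{u}) (hO : Cfsg.oddCore X = ⊥) (S : Sylow 2 X)
    (hAe : Cfsg.IsElementaryAbelian 2 A) (hA : Cfsg.IsStronglyClosed A (S : Subgroup X))
    (hBe : Cfsg.IsElementaryAbelian 2 B) (hB : Cfsg.IsStronglyClosed B (S : Subgroup X))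
    (hCA : ∀ s ∈ (S : Subgroup X), (∀ a ∈ A, s * a = a * s) → s ∈ A)
    (hCB : ∀ s ∈ (S : Subgroup X), (∀ a ∈ B, s * a = a * s) → s ∈ B)
    (hcen : ∀ x ∈ A ⊓ B, ∀ s ∈ (S : Subgroup X), s * x = x * s)
    (hcom : A ⊓ B ≤ ⁅A, (S : Subgroup X)⁆) : Cfsg.layer X = ⊥ := by
  rw [layer_eq_bot_iff]
  intro K hK
  have hnA := not_le_centralizer hO S hCA hK
  have hnB := not_le_centralizer hO S hCB hK
  -- `A ∩ K ≤ B`
  have h1 : ∀ a ∈ A ⊓ K, a ∈ A ⊓ B := by
    intro a ha
    obtain ⟨b, hb, hba⟩ := exists_same hG hO hAe hA hBe hB hK hnB ha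
    have hzK : b⁻¹ * a ∈ K := mul_mem (inv_mem hb.2) ha.2
    have hzS : b⁻¹ * a ∈ (S : Subgroup X) := mul_mem (inv_mem (hB.1 hb.1)) (hA.1 ha.1)
    have hzB := hCB _ hzS (commute_of_central hG hO hBe hB hK hnB hzK hba)
    refine ⟨ha.1, ?_⟩
    have := mul_mem hb.1 hzB
    rwa [mul_inv_cancel_left] at this
  obtain ⟨v, hv, hv'⟩ := exists_not_central hG hO hAe hA hK hnA
  -- `S` normalises `K`
  have hSK : (S : Subgroup X) ≤ normalizer (K : Set X) := by
    intro s hs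
    exact mem_normalizer_of_commute hK hv.2 hv' (hcen v (h1 v hv) s hs)
  -- `[A, S] ≤ C(K)`
  have h2 : ⁅A, (S : Subgroup X)⁆ ≤ centralizer (K : Set X) := by
    rw [commutator_le]
    intro a ha s hs
    obtain ⟨w, hw, c, hc, rfl⟩ := hG.inner X hO S A hAe hA K hK hnA a ha
    have h3 : s * w = w * s := hcen w (h1 w hw) s hs
    have h4 : w * c = c * w := mem_centralizer_iff.1 hc.2 w hw.2
    have h5 : ⁅w * c, s⁆ = c * (s * c⁻¹ * s⁻¹) := by
      rw [commutatorElement_def, h4, mul_inv_rev]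
      calc c * w * s * (w⁻¹ * c⁻¹) * s⁻¹ = c * (w * s) * w⁻¹ * c⁻¹ * s⁻¹ := by group
        _ = c * (s * w) * w⁻¹ * c⁻¹ * s⁻¹ := by rw [h3]
        _ = c * (s * c⁻¹ * s⁻¹) := by group
    rw [h5]
    refine mul_mem hc.2 ?_
    exact conj_mem_centralizer (hSK hs) (inv_mem hc.2)
  exact hv' (h2 (hcom (h1 v hv)))

/-- In a group without odd core and without components a strongly closed abelian 2-subgroup is normal. -/
theorem normal_of_layer (hO : Cfsg.oddCore X = ⊥) (hl : Cfsg.layer X = ⊥) (S : Sylow 2 X)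
    (hAc : ∀ a ∈ A, ∀ b ∈ A, a * b = b * a) (hA : Cfsg.IsStronglyClosed A (S : Subgroup X)) :
    A.Normal := by
  set Q : Subgroup X := Cfsg.pCore 2 X with hQdef
  have hQ : centralizer (Q : Set X) ≤ Q :=
    (Cfsg.Agent.SignalizersComponents.PConstrained.centralizer_pCore_le_iff_layer_eq_bot 2 hO).2 hl
  have hQS : Q ≤ (S : Subgroup X) := Lib.Cores.pCore_le_sylow S
  have hQn : Q.Normal := Lib.Cores.pCore_normal 2
  have hQp : IsPGroup 2 Q := Lib.Cores.pCore_isPGroup 2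
  have hD : ∀ d ∈ A ⊓ Q, ∀ g : X, g * d * g⁻¹ ∈ A ⊓ Q := by
    intro d hd g
    have h1 : g * d * g⁻¹ ∈ Q := hQn.conj_mem d hd.2 g
    exact ⟨hA.2 d hd.1 g (hQS h1), h1⟩
  let N : Subgroup X :=
    { carrier := {g | (∀ d ∈ A ⊓ Q, g * d = d * g) ∧ ∀ q ∈ Q, g * q * g⁻¹ * q⁻¹ ∈ A ⊓ Q}
      mul_mem' := by
        rintro g h ⟨hg1, hg2⟩ ⟨hh1, hh2⟩
        refine ⟨fun d hd => by rw [mul_assoc, hh1 d hd, ← mul_assoc, hg1 d hd, mul_assoc], ?_⟩
        intro q hq
        have h1 : g * h * q * (g * h)⁻¹ * q⁻¹ =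
            (g * (h * q * h⁻¹ * q⁻¹) * g⁻¹) * (g * q * g⁻¹ * q⁻¹) := by group
        rw [h1]
        exact mul_mem (hD _ (hh2 q hq) g) (hg2 q hq)
      one_mem' := ⟨fun d _ => by rw [one_mul, mul_one], fun q _ => by simp⟩
      inv_mem' := by
        rintro g ⟨hg1, hg2⟩
        refine ⟨fun d hd => ?_, ?_⟩
        · have := hg1 d hd
          calc g⁻¹ * d = g⁻¹ * (d * g) * g⁻¹ := by group
            _ = g⁻¹ * (g * d) * g⁻¹ := by rw [this]
            _ = d * g⁻¹ := by group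
        · intro q hq
          have h1 : g⁻¹ * q * g⁻¹⁻¹ * q⁻¹ = g⁻¹ * (g * q * g⁻¹ * q⁻¹)⁻¹ * g⁻¹⁻¹ := by group
          rw [h1]
          exact hD _ (inv_mem (hg2 q hq)) g⁻¹ }
  have hNn : N.Normal := by
    refine ⟨?_⟩
    rintro g ⟨hg1, hg2⟩ x
    refine ⟨fun d hd => ?_, fun q hq => ?_⟩
    · have h1 : x⁻¹ * d * x ∈ A ⊓ Q := by
        have := hD d hd x⁻¹
        rwa [inv_inv] at this
      have h2 := hg1 _ h1
      calc x * g * x⁻¹ * d = x * (g * (x⁻¹ * d * x)) * x⁻¹ := by group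
        _ = x * ((x⁻¹ * d * x) * g) * x⁻¹ := by rw [h2]
        _ = d * (x * g * x⁻¹) := by group
    · have h1 : x⁻¹ * q * x ∈ Q := by
        have := hQn.conj_mem q hq x⁻¹
        rwa [inv_inv] at this
      have h2 := hD _ (hg2 _ h1) x
      have h3 : x * g * x⁻¹ * q * (x * g * x⁻¹)⁻¹ * q⁻¹ =
          x * (g * (x⁻¹ * q * x) * g⁻¹ * (x⁻¹ * q * x)⁻¹) * x⁻¹ := by group
      rw [h3]
      exact h2
  have hAN : A ≤ N := by
    intro a ha
    refine ⟨fun d hd => hAc a ha d hd.1, fun q hq => ?_⟩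
    have h1 : a * q * a⁻¹ * q⁻¹ ∈ Q := mul_mem (hQn.conj_mem q hq a) (inv_mem hq)
    have h2 : q * a⁻¹ * q⁻¹ ∈ A :=
      hA.2 _ (inv_mem ha) q (mul_mem (mul_mem (hQS hq) (hA.1 (inv_mem ha))) (inv_mem (hQS hq)))
    have h3 : a * q * a⁻¹ * q⁻¹ = a * (q * a⁻¹ * q⁻¹) := by group
    exact ⟨h3 ▸ mul_mem ha h2, h1⟩
  have hNp : IsPGroup 2 N := by
    rintro ⟨x, hx⟩
    obtain ⟨k, m, hm, hkm⟩ := Nat.exists_eq_two_pow_mul_odd (orderOf_pos x).ne'
    have hy : x ^ 2 ^ k ∈ N := N.pow_mem hx _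
    have hyo : orderOf (x ^ 2 ^ k) = m := by
      rw [orderOf_pow, hkm, Nat.gcd_eq_right (Dvd.intro _ rfl), Nat.mul_div_cancel_left _ (by positivity)]
    obtain ⟨n, hn⟩ := (IsPGroup.iff_card.1 hQp)
    have hcop : (orderOf (x ^ 2 ^ k)).Coprime (Nat.card Q) := by
      rw [hyo, hn]
      exact Nat.Coprime.pow_right _ (Nat.Coprime.symm (Nat.coprime_two_left.2 hm))
    have hcen : x ^ 2 ^ k ∈ centralizer (Q : Set X) := by
      rw [mem_centralizer_iff]
      intro q hq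
      have h1 : ⁅x ^ 2 ^ k, q⁆ ∈ A ⊓ Q := hy.2 q hq
      have h2 : ⁅q, x ^ 2 ^ k⁆ ∈ A ⊓ Q := by
        rw [← commutatorElement_inv]
        exact inv_mem h1
      exact Lib.CoprimeStab.commute_of_commutator_commute hcop h2.2 (hy.1 _ h2).symm
    have h3 := hQ hcen
    have h4 : orderOf (x ^ 2 ^ k) = 1 := by
      have h5 : orderOf (x ^ 2 ^ k) ∣ Nat.card Q := Lib.CoprimeStab.orderOf_dvd_natCard_of_mem h3
      exact Nat.eq_one_of_dvd_coprimes hcop (dvd_refl _) h5
    refine ⟨k, Subtype.ext ?_⟩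
    rw [orderOf_eq_one_iff] at h4
    exact h4
  have hAQ : A ≤ Q := hAN.trans (Lib.Cores.le_pCore hNn hNp)
  refine ⟨fun a ha g => ?_⟩
  exact (hD a ⟨ha, hAQ ha⟩ g).1

end Cfsg.Agent.SylowL.NoComp
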